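import Cfsg.Agent.Lib.Helper56.SymTwo.Defs

/-!
# S3350 "SYM2", package [ENUM]: Coxeter gluing in arbitrary labelings
-/

set_option autoImplicit false

namespace Cfsg.Agent.Lib.Helper34.SymTwo

open Equiv Cfsg.Agent.Lib.Helper56.SymTwo

universe u

/-- a permutation with two prescribed values -/
theorem exists_perm_two {α : Type*} [DecidableEq α] {p q a b : α} (hpq : p ≠ q) (hab : a ≠ b) :
    ∃ l : Perm α, l p = a ∧ l q = b := by
  refine ⟨swap (swap p a q) b * swap p a, ?_, ?_⟩
  · rw [Perm.mul_apply, swap_apply_left]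
    have h1 : a ≠ swap p a q := by
      intro h
      have : swap p a p = swap p a q := by rw [swap_apply_left]; exact h
      exact hpq ((swap p a).injective this)
    exact swap_apply_of_ne_of_ne h1 hab
  · rw [Perm.mul_apply, swap_apply_left]

/-- the shift by two on `Fin m` -/
def shift2 (m : ℕ) (hm : 2 ≤ m) : Perm (Fin m) where
  toFun x := if h : x.val + 2 < m then ⟨x.val + 2, h⟩ else ⟨x.val + 2 - m, by omega⟩
  invFun y := if h : 2 ≤ y.val then ⟨y.val - 2, by omega⟩ else ⟨y.val + m - 2, by omega⟩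
  left_inv := by
    intro x
    have hx := x.2
    by_cases h : x.val + 2 < m
    · simp only [h, dif_pos]
      apply Fin.ext
      simp
    · simp only [h, dif_neg, not_false_eq_true]
      have h' : ¬ 2 ≤ x.val + 2 - m := by omega
      simp only [h', dif_neg, not_false_eq_true]
      apply Fin.ext
      simp only
      omega
  right_inv := by
    intro y
    have hy := y.2
    by_cases h : 2 ≤ y.val
    · simp only [h, dif_pos]
      have h' : y.val - 2 + 2 < m := by omega
      simp only [h', dif_pos]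
      apply Fin.ext
      simp only
      omega
    · simp only [h, dif_neg, not_false_eq_true]
      have h' : ¬ y.val + m - 2 + 2 < m := by omega
      simp only [h', dif_neg, not_false_eq_true]
      apply Fin.ext
      simp only
      omega

theorem shift2_lt (m : ℕ) (hm : 2 ≤ m) (i : ℕ) (hi : i + 2 < m) :
    shift2 m hm ⟨i, by omega⟩ = ⟨i + 2, hi⟩ := by
  show (if h : i + 2 < m then (⟨i + 2, h⟩ : Fin m) else ⟨i + 2 - m, by omega⟩) = _
  rw [dif_pos hi]

theorem shift2_a (m : ℕ) (hm : 2 ≤ m) :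
    shift2 m hm ⟨m - 2, by omega⟩ = ⟨0, by omega⟩ := by
  show (if h : m - 2 + 2 < m then (⟨m - 2 + 2, h⟩ : Fin m) else ⟨m - 2 + 2 - m, by omega⟩) = _
  rw [dif_neg (by omega)]
  apply Fin.ext
  simp only
  omega

theorem shift2_b (m : ℕ) (hm : 2 ≤ m) :
    shift2 m hm ⟨m - 1, by omega⟩ = ⟨1, by omega⟩ := by
  show (if h : m - 1 + 2 < m then (⟨m - 1 + 2, h⟩ : Fin m) else ⟨m - 1 + 2 - m, by omega⟩) = _
  rw [dif_neg (by omega)]
  apply Fin.ext
  simp only
  omega

theorem perm_inv_apply_self {α : Type*} (f : Perm α) (x : α) : f⁻¹ (f x) = x :=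
  Perm.inv_eq_iff_eq.mpr rfl

theorem conj_swap {α : Type*} [DecidableEq α] (l : Perm α) (p q : α) :
    (MulAut.conj l).toMonoidHom (swap p q) = swap (l p) (l q) := by
  rw [swap_apply_apply]
  rfl

theorem range_comp_conj {G : Type u} [Group G] {α : Type*} (κ : Perm α →* G) (l : Perm α) :
    (κ.comp (MulAut.conj l).toMonoidHom).range = κ.range := by
  rw [MonoidHom.range_comp]
  have : ((MulAut.conj l).toMonoidHom).range = ⊤ :=
    MonoidHom.range_eq_top.mpr (MulAut.conj l).surjective
  rw [this, ← MonoidHom.range_eq_map]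

/-- [ENUM] -/
theorem pkgGlue2_of (hG : PkgGlue.{u}) : PkgGlue2.{u} := by
  intro m hm G _ κ ι hκ hι a b a' b' hab hab' h1 h2 e hea heb h3 h4
  have hm2 : 2 ≤ m := by omega
  obtain ⟨lK, hlKa, hlKb⟩ := exists_perm_two (p := (⟨m - 2, by omega⟩ : Fin m))
    (q := ⟨m - 1, by omega⟩) (by intro h; have := congrArg Fin.val h; simp at this; omega) hab
  set lJ : Perm (Fin m) := e * lK * (shift2 m hm2)⁻¹ with hlJ
  have hJ0 : lJ ⟨0, by omega⟩ = a' := by
    rw [hlJ, Perm.mul_apply, Perm.mul_apply, ← shift2_a m hm2, perm_inv_apply_self, hlKa, hea]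
  have hJ1 : lJ ⟨1, by omega⟩ = b' := by
    rw [hlJ, Perm.mul_apply, Perm.mul_apply, ← shift2_b m hm2, perm_inv_apply_self, hlKb, heb]
  have hJi : ∀ (i : ℕ) (hi : i + 2 < m), lJ ⟨i + 2, hi⟩ = e (lK ⟨i, by omega⟩) := by
    intro i hi
    rw [hlJ, Perm.mul_apply, Perm.mul_apply, ← shift2_lt m hm2 i hi, perm_inv_apply_self]
  have hK : ∀ (i : ℕ) (hi : i + 2 < m), lK ⟨i, by omega⟩ ≠ a ∧ lK ⟨i, by omega⟩ ≠ b := by
    intro i hi
    constructor
    · rw [← hlKa]
      intro h
      have := congrArg Fin.val (lK.injective h)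
      simp at this
      omega
    · rw [← hlKb]
      intro h
      have := congrArg Fin.val (lK.injective h)
      simp at this
      omega
  have hκs : ∀ p q : Fin m, (κ.comp (MulAut.conj lK).toMonoidHom) (swap p q) =
      κ (swap (lK p) (lK q)) := by
    intro p q
    rw [MonoidHom.comp_apply, conj_swap]
  have hιs : ∀ p q : Fin m, (ι.comp (MulAut.conj lJ).toMonoidHom) (swap p q) =
      ι (swap (lJ p) (lJ q)) := by
    intro p q
    rw [MonoidHom.comp_apply, conj_swap]
  obtain ⟨Φ, hΦ, hr⟩ := hG m hm (κ.comp (MulAut.conj lK).toMonoidHom)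
    (ι.comp (MulAut.conj lJ).toMonoidHom)
    (hι.comp (MulAut.conj lJ).injective)
    (by
      intro i j hi hj
      rw [hκs, hιs, hJi i hi, hJi j hj]
      exact (h3 _ _ (hK i hi).1 (hK i hi).2 (hK j hj).1 (hK j hj).2).symm)
    (by
      intro σ
      rw [hιs, hJ0, hJ1]
      exact h1 _)
    (by
      intro τ
      rw [hκs, hlKa, hlKb]
      exact h2 _)
    (by
      rw [hκs, hιs, hJ1, hlKa, hJi 0 (by omega), swap_comm (lK _) a]
      have hne : lK ⟨0, by omega⟩ ≠ lK ⟨m - 3, by omega⟩ := by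
        intro h
        have := congrArg Fin.val (lK.injective h)
        simp at this
        omega
      exact h4 _ _ (hK 0 (by omega)).1 (hK 0 (by omega)).2 (hK (m - 3) (by omega)).1
        (hK (m - 3) (by omega)).2 hne)
  refine ⟨Φ, hΦ, ?_⟩
  rw [hr, range_comp_conj, range_comp_conj]

end Cfsg.Agent.Lib.Helper34.SymTwo
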